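import Groth.Agent.QC70.Devissage
import Groth.Prelude.Def_KZero
import Mathlib.RingTheory.Length
import Mathlib.LinearAlgebra.FiniteDimensional.Basic

/-!
Dévissage for coherent modules from modules with stalk of length one, and generators of `K₀`.
-/

set_option autoImplicit false
set_option backward.isDefEq.respectTransparency.types false
set_option linter.style.haveILetI false

noncomputable section

universe u

open CategoryTheory Limits AlgebraicGeometry TopologicalSpace Opposite

namespace Groth.Agent.KCohDev46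

open QC70

variable {X : Scheme.{u}}

/-- A module with stalk of length one at `y` whose twists by ideals satisfy `P`. -/
def GenOne (P : X.Modules → Prop) (y : X) : Prop :=
  ∃ G : X.Modules, Coh.IsCoh G ∧
    Module.length (X.presheaf.stalk y) (G.presheaf.stalk y) = 1 ∧
    ∀ J : X.IdealSheafData, y ∉ (J.support : Set X) → P ((Dual3.idealMul J).obj G)

theorem exists_pow_equiv {R : Type*} [CommRing R] [IsLocalRing R] {A B : Type*}
    [AddCommGroup A] [Module R A] [AddCommGroup B] [Module R B] [Module.Finite R B]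
    [IsSimpleModule R A] (hB : ∀ r ∈ IsLocalRing.maximalIdeal R, ∀ m : B, r • m = 0) :
    ∃ a : ℕ, Nonempty ((Fin a → A) ≃ₗ[R] B) := by
  let m := IsLocalRing.maximalIdeal R
  let k := R ⧸ m
  haveI := IsSimpleModule.nontrivial R A
  obtain ⟨x, hx⟩ := exists_ne (0 : A)
  have hsurj : Function.Surjective (LinearMap.toSpanSingleton R A x) :=
    IsSimpleModule.toSpanSingleton_surjective R hx
  have hker : LinearMap.ker (LinearMap.toSpanSingleton R A x) = m :=
    IsLocalRing.eq_maximalIdeal (IsSimpleModule.ker_toSpanSingleton_isMaximal R hx)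
  let eA : k ≃ₗ[R] A := (Submodule.quotEquivOfEq m _ hker.symm).trans
    ((LinearMap.toSpanSingleton R A x).quotKerEquivOfSurjective hsurj)
  letI : Field k := Ideal.Quotient.field m
  have hB' : Module.IsTorsionBySet R B (m : Set R) := fun x a => hB a.1 a.2 x
  letI : Module k B := hB'.module
  haveI : IsScalarTower R k B := hB'.isScalarTower
  haveI : Module.Finite k B := Module.Finite.of_restrictScalars_finite R _ _
  exact ⟨Module.finrank k B, ⟨(LinearEquiv.piCongrRight fun _ => eA.symm).trans
    ((Module.finBasis k B).equivFun.restrictScalars R).symm⟩⟩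

section Core

variable [IsNoetherian X] (P : X.Modules → Prop)
  (h0 : ∀ M : X.Modules, IsZero M → P M)
  (hext : ∀ S : ShortComplex X.Modules, S.ShortExact → Coh.IsCoh S.X₁ → Coh.IsCoh S.X₂ →
    Coh.IsCoh S.X₃ → P S.X₁ → P S.X₃ → P S.X₂)

include h0 hext in
lemma generic_one (Y : Closeds X) (y : X) (_hy : (Y : Set X) = closure {y})
    (IH : ∀ F : X.Modules, Coh.IsCoh F → CohB1.support F ⊆ Y → y ∉ CohB1.support F → P F)
    (hgen : GenOne P y) (F : X.Modules) (hF : Coh.IsCoh F) (hFY : CohB1.support F ⊆ Y)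
    (_hyF : y ∈ CohB1.support F)
    (hkill : ∀ r ∈ IsLocalRing.maximalIdeal (X.presheaf.stalk y), ∀ e : F.presheaf.stalk y,
      r • e = 0) : P F := by
  classical
  obtain ⟨G, hG, hlen, hGJ⟩ := hgen
  haveI := Module.length_eq_one_iff.1 hlen
  obtain ⟨_, _⟩ := hF
  obtain ⟨_, _⟩ := hG
  haveI := finite_stalk F y
  obtain ⟨a, ⟨e⟩⟩ := exists_pow_equiv (R := X.presheaf.stalk y) (A := G.presheaf.stalk y) hkill
  have hM : Coh.IsCoh (⨁ fun _ : Fin a => G) := isCoh_biproduct _ fun _ => ⟨‹_›, ‹_›⟩
  have hN : Coh.IsCoh F := ⟨‹_›, ‹_›⟩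
  haveI := hM.1
  obtain ⟨J, ψ, hyJ, hψm, hψb⟩ := exists_mono_iso_at hM hN y
    ((biproductStalkEquiv (fun _ : Fin a => G) y).trans e)
  let α : (⨁ fun _ : Fin a => (Dual3.idealMul J).obj G) ⟶
      (Dual3.idealMul J).obj (⨁ fun _ : Fin a => G) :=
    biproduct.desc fun j => (Dual3.idealMul J).map (biproduct.ι (fun _ : Fin a => G) j)
  have hα : α ≫ Dual3.idealMulι J _ = biproduct.map fun _ : Fin a => Dual3.idealMulι J G :=
    biproduct.hom_ext' _ _ fun j => by
      rw [biproduct.ι_desc_assoc, Dual3.idealMul_map_ι, biproduct.ι_map]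
  haveI : Mono (biproduct.map fun _ : Fin a => Dual3.idealMulι J G) := inferInstance
  haveI : Mono α := mono_of_mono_fac hα
  have := hψm
  let φ := α ≫ ψ
  have hφm : Mono φ := inferInstance
  have hφb : Function.Bijective (stalkMapM φ y) := by
    have h := bijective_stalkMapM_biproductMap (fun _ : Fin a => (Dual3.idealMul J).obj G) y
      (fun _ : Fin a => Dual3.idealMulι J G) fun _ => bijective_stalk_idealMulι J G hyJ
    rw [← hα] at h
    have hι := bijective_stalk_idealMulι J (⨁ fun _ : Fin a => G) hyJ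
    have e1 : stalkMapM (Dual3.idealMulι J _) y ∘ stalkMapM α y =
        stalkMapM (α ≫ Dual3.idealMulι J _) y := funext fun c => (stalkMapM_comp _ _ y c).symm
    have e2 : stalkMapM ψ y ∘ stalkMapM α y = stalkMapM φ y :=
      funext fun c => (stalkMapM_comp _ _ y c).symm
    rw [← e1] at h
    rw [← e2]
    exact hψb.comp ((Function.Bijective.of_comp_iff' hι _).mp h)
  let S := ShortComplex.mk φ (cokernel.π φ) (cokernel.condition φ)
  have hS : S.ShortExact := ShortComplex.ShortExact.mk'
    (ShortComplex.exact_of_g_is_cokernel _ (cokernelIsCokernel _)) hφm (by dsimp [S]; infer_instance)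
  have h1 : Coh.IsCoh (⨁ fun _ : Fin a => (Dual3.idealMul J).obj G) :=
    isCoh_biproduct _ fun _ => isCoh_idealMul J ⟨‹_›, ‹_›⟩
  have h3 : Coh.IsCoh (cokernel φ) := isCoh_cokernel φ h1.1 hN
  refine hext S hS h1 hN h3
    (prop_biproduct P h0 hext _ (fun _ => isCoh_idealMul J ⟨‹_›, ‹_›⟩) fun _ => hGJ J hyJ) ?_
  exact IH _ h3 ((mem_support_of_epi (cokernel.π φ)).trans hFY)
    (notMem_support_iff.mpr (subsingleton_stalk_cokernel φ y hφb.2))

include h0 hext in
theorem devissage_one (T : Set X) (hT : IsClosed T)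
    (hgen : ∀ y ∈ T, (∀ F : X.Modules, Coh.IsCoh F → CohB1.support F ⊆ closure {y} →
      y ∉ CohB1.support F → P F) → GenOne P y)
    (F : X.Modules) (hF : Coh.IsCoh F) (hsupp : CohB1.support F ⊆ T) : P F := by
  suffices ∀ (Y : Closeds X), (Y : Set X) ⊆ T → ∀ F : X.Modules, Coh.IsCoh F →
      CohB1.support F ⊆ Y → P F by
    exact this ⟨T, hT⟩ subset_rfl F hF hsupp
  intro Y
  induction Y using WellFoundedLT.induction with
  | ind Y ih =>
  intro hYT F hF hFY
  have small : ∀ F : X.Modules, Coh.IsCoh F → CohB1.support F ⊆ Y →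
      CohB1.support F ≠ Y → P F := by
    intro F hF hFY hne
    haveI := hF.2
    exact ih ⟨_, isClosed_support F⟩
      (lt_of_le_of_ne hFY fun h => hne (congrArg SetLike.coe h)) (hFY.trans hYT) F hF subset_rfl
  by_cases hirr : IsIrreducible (Y : Set X)
  · obtain ⟨y, hy⟩ := QuasiSober.sober hirr Y.isClosed
    have hy' : (Y : Set X) = closure {y} := hy.def.symm
    have hyY : y ∈ (Y : Set X) := hy.mem
    have IH : ∀ F : X.Modules, Coh.IsCoh F → CohB1.support F ⊆ Y → y ∉ CohB1.support F → P F :=
      fun F hF hFY hyF => small F hF hFY fun h => hyF (h.ge hyY)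
    let I := Scheme.IdealSheafData.vanishingIdeal Y
    have hI : (I.support : Set X) = Y := Scheme.IdealSheafData.coe_support_vanishingIdeal Y
    have key : ∀ (n : ℕ) (F : X.Modules), Coh.IsCoh F → CohB1.support F ⊆ Y →
        (∀ (W : X.affineOpens) (a : Γ(X, W.1)), a ∈ I.ideal W ^ n → ∀ t : Γ(F, W.1), a • t = 0) →
        P F := by
      intro n
      induction n with
      | zero =>
        intro F hF hFY h
        refine h0 _ (isZero_of_support_eq_empty (Set.eq_empty_iff_forall_notMem.mpr fun x => ?_))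
        obtain ⟨_, ⟨V, hV, rfl⟩, hxV, -⟩ :=
          X.isBasis_affineOpens.exists_subset_of_mem_open (Set.mem_univ x) isOpen_univ
        haveI := hF.1
        refine notMem_support_iff.mpr (subsingleton_stalk_of_killed (W := ⟨V, hV⟩) hxV (a := 1)
          (by rwa [Scheme.basicOpen_of_isUnit X isUnit_one]) (h ⟨V, hV⟩ 1 ?_))
        rw [pow_zero, Ideal.one_eq_top]
        trivial
      | succ n ihn =>
        intro F hF hFY h
        haveI := hF.1
        have hq : P (quotSC I F).X₃ := by
          have hc := isCoh_quot I hF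
          haveI := hc.1
          have hs := (support_quot_subset_left I F).trans hFY
          by_cases hyQ : y ∈ CohB1.support (quotSC I F).X₃
          · exact generic_one P h0 hext Y y hy' IH
              (hgen y (hYT hyY) fun F hF hFy hyF => IH F hF (hy' ▸ hFy) hyF) _ hc hs hyQ
              (stalk_killed hy' fun W a ha t => smul_quot_eq_zero I F W ha t)
          · exact IH _ hc hs hyQ
        refine hext (quotSC I F) (quotSC_shortExact I F) (isCoh_idealMul I hF) hF
          (isCoh_quot I hF) ?_ hq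
        refine ihn _ (isCoh_idealMul I hF) ((mem_support_of_mono (Dual3.idealMulι I F)).trans hFY)
          fun W a ha t => ?_
        refine smul_idealMul_eq_zero I W ha (fun b hb s => h W b ?_ s) t
        rwa [pow_succ]
    haveI := hF.1
    haveI := hF.2
    obtain ⟨n, hn⟩ := QCSupp72.exists_pow_smul_sections_eq_zero F I (hFY.trans hI.ge)
    exact key n F hF hFY hn
  · by_cases hFe : CohB1.support F = ∅
    · exact h0 _ (isZero_of_support_eq_empty hFe)
    by_cases hne : CohB1.support F = (Y : Set X)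
    swap
    · exact small F hF hFY hne
    have hYne : (Y : Set X).Nonempty := by
      rw [← hne]
      exact Set.nonempty_iff_ne_empty.mpr hFe
    have hnp : ¬ IsPreirreducible (Y : Set X) := fun h => hirr ⟨hYne, h⟩
    rw [isPreirreducible_iff_isClosed_union_isClosed] at hnp
    push Not at hnp
    obtain ⟨z₁, z₂, hz₁, hz₂, hsub, hn₁, hn₂⟩ := hnp
    let Y₁ : Closeds X := ⟨(Y : Set X) ∩ z₁, Y.isClosed.inter hz₁⟩
    let Y₂ : Closeds X := ⟨(Y : Set X) ∩ z₂, Y.isClosed.inter hz₂⟩
    let I := Scheme.IdealSheafData.vanishingIdeal Y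
    let I₁ := Scheme.IdealSheafData.vanishingIdeal Y₁
    let I₂ := Scheme.IdealSheafData.vanishingIdeal Y₂
    have hI : (I.support : Set X) = Y := Scheme.IdealSheafData.coe_support_vanishingIdeal Y
    have hI₁ : (I₁.support : Set X) = Y₁ := Scheme.IdealSheafData.coe_support_vanishingIdeal Y₁
    have hI₂ : (I₂.support : Set X) = Y₂ := Scheme.IdealSheafData.coe_support_vanishingIdeal Y₂
    have hle : I₁ * I₂ ≤ I := by
      refine Scheme.IdealSheafData.le_support_iff_le_vanishingIdeal.mp ?_
      rw [Scheme.IdealSheafData.support_mul]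
      intro x hx
      rw [← SetLike.mem_coe, Closeds.coe_sup, hI₁, hI₂]
      rcases hsub hx with h | h
      · exact Or.inl ⟨hx, h⟩
      · exact Or.inr ⟨hx, h⟩
    haveI := hF.1
    haveI := hF.2
    obtain ⟨n, hn⟩ := QCSupp72.exists_pow_smul_sections_eq_zero F I (hFY.trans hI.ge)
    let J := I₁ ^ (n + 1)
    have hq : P (quotSC J F).X₃ := by
      refine small _ (isCoh_quot J hF) ((support_quot_subset_left J F).trans hFY) fun h => ?_
      refine hn₁ ((h.ge.trans ((support_quot_subset_right J F).trans (?_ : _ ⊆ (Y₁ : Set X)))).trans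
        Set.inter_subset_right)
      rw [Scheme.IdealSheafData.support_pow_succ, hI₁]
    refine hext (quotSC J F) (quotSC_shortExact J F) (isCoh_idealMul J hF) hF (isCoh_quot J hF)
      (small _ (isCoh_idealMul J hF) ((mem_support_of_mono (Dual3.idealMulι J F)).trans hFY)
        fun h => hn₂ ?_) hq
    have hkill : ∀ (W : X.affineOpens) (a : Γ(X, W.1)), a ∈ I₂.ideal W ^ (n + 1) →
        ∀ t : Γ((Dual3.idealMul J).obj F, W.1), a • t = 0 := by
      intro W a ha t
      refine smul_idealMul_eq_zero J W ha (fun b hb s => hn W b ?_ s) t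
      rw [show J.ideal W = I₁.ideal W ^ (n + 1) from rfl, ← mul_pow, mul_comm] at hb
      exact Ideal.pow_le_pow_right (Nat.le_succ n) (Ideal.pow_right_mono (hle W) _ hb)
    haveI := isQuasicoherent_idealMul J F
    exact (h.ge.trans ((support_subset_of_killed I₂ hkill).trans hI₂.le)).trans
      Set.inter_subset_right


end Core

section K0

theorem clSub_eq (P : ObjectProperty X.Modules) {M : X.Modules} (h : P M) :
    KZero.clSub P M = QuotientAddGroup.mk (FreeAbelianGroup.of ⟨M, h⟩) := dif_pos h

theorem clSub_add (P : ObjectProperty X.Modules) (S : ShortComplex X.Modules) (hS : S.ShortExact)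
    (h₁ : P S.X₁) (h₂ : P S.X₂) (h₃ : P S.X₃) :
    KZero.clSub P S.X₂ = KZero.clSub P S.X₁ + KZero.clSub P S.X₃ := by
  rw [clSub_eq P h₁, clSub_eq P h₂, clSub_eq P h₃, ← sub_eq_zero, ← sub_sub,
    ← QuotientAddGroup.mk_sub, ← QuotientAddGroup.mk_sub, QuotientAddGroup.eq_zero_iff]
  exact AddSubgroup.subset_closure ⟨S, h₁, h₂, h₃, hS, rfl⟩

theorem closure_range_eq_top [IsNoetherian X] (Y' : Set X) (hY' : IsClosed Y') {ι : Type*}
    (F : ι → X.Modules) (hF : ∀ a, Coh.IsCoh (F a) ∧ CohB1.support (F a) ⊆ Y')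
    (hgen : ∀ y ∈ Y', ∃ a : ι, CohB1.support (F a) ⊆ closure {y} ∧
      Module.length (X.presheaf.stalk y) ((F a).presheaf.stalk y) = 1) :
    AddSubgroup.closure (Set.range fun a : ι =>
      KZero.clSub (fun G : X.Modules => Coh.IsCoh G ∧ CohB1.support G ⊆ Y') (F a)) = ⊤ := by
  let C : ObjectProperty X.Modules := fun G => Coh.IsCoh G ∧ CohB1.support G ⊆ Y'
  set H := AddSubgroup.closure (Set.range fun a : ι => KZero.clSub C (F a)) with hH
  let P : X.Modules → Prop := fun M => C M → KZero.clSub C M ∈ H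
  have hzero : ∀ M : X.Modules, IsZero M → P M := by
    intro M hM hC
    let S : ShortComplex X.Modules := ShortComplex.mk (𝟙 M) (0 : M ⟶ M) comp_zero
    have hS : S.ShortExact :=
      { exact := ShortComplex.exact_of_isZero_X₂ _ hM
        epi_g := ⟨fun g h _ => hM.eq_of_src g h⟩ }
    have e := clSub_add C S hS hC hC hC
    change KZero.clSub C M = KZero.clSub C M + KZero.clSub C M at e
    rw [left_eq_add.1 e]
    exact H.zero_mem
  have hext : ∀ S : ShortComplex X.Modules, S.ShortExact → Coh.IsCoh S.X₁ → Coh.IsCoh S.X₂ →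
      Coh.IsCoh S.X₃ → P S.X₁ → P S.X₃ → P S.X₂ := by
    intro S hS h1 h2 h3 p1 p3 hC
    haveI := hS.mono_f
    haveI := hS.epi_g
    have c1 : C S.X₁ := ⟨h1, (mem_support_of_mono S.f).trans hC.2⟩
    have c3 : C S.X₃ := ⟨h3, (mem_support_of_epi S.g).trans hC.2⟩
    rw [clSub_add C S hS c1 hC c3]
    exact H.add_mem (p1 c1) (p3 c3)
  refine eq_top_iff.2 fun x hx => ?_
  clear hx
  obtain ⟨z, rfl⟩ := QuotientAddGroup.mk_surjective x
  induction z using FreeAbelianGroup.induction_on with
  | zero => exact H.zero_mem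
  | of M =>
    refine (clSub_eq C M.2) ▸ devissage_one P hzero hext Y' hY' (fun y hy IH => ?_) M.1 M.2.1
      M.2.2 M.2
    obtain ⟨a, ha, hlen⟩ := hgen y hy
    refine ⟨F a, (hF a).1, hlen, fun J hJ hC => ?_⟩
    haveI := (hF a).1.1
    have hq := isCoh_quot J (hF a).1
    have hsl := support_quot_subset_left J (F a)
    have e := clSub_add C (quotSC J (F a)) (quotSC_shortExact J (F a)) hC (hF a)
      ⟨hq, hsl.trans (hF a).2⟩
    have hP := IH _ hq (hsl.trans ha) (fun h => hJ (support_quot_subset_right J (F a) h))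
      ⟨hq, hsl.trans (hF a).2⟩
    have hFa : KZero.clSub C (F a) ∈ H := AddSubgroup.subset_closure ⟨a, rfl⟩
    change KZero.clSub C (F a) =
      KZero.clSub C ((Dual3.idealMul J).obj (F a)) + KZero.clSub C (quotSC J (F a)).X₃ at e
    rw [eq_sub_of_add_eq e.symm]
    exact H.sub_mem hFa hP
  | neg M hM => exact H.neg_mem hM
  | add x y hx hy => exact H.add_mem hx hy

end K0

end Groth.Agent.KCohDev46
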