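import Groth.Agent.KCohDev46.Main
import Groth.Agent.QC70.DevissageAux
import Groth.Prelude.Def_ChowK
import Groth.Prelude.Def_IntMult
import Mathlib.Topology.KrullDimension

/-!
Structure sheaves of closures of points, and the filtration of `K₀` by dimension of supports.
-/

set_option autoImplicit false
set_option backward.isDefEq.respectTransparency.types false
set_option linter.style.haveILetI false

noncomputable section

universe u

open CategoryTheory Limits AlgebraicGeometry TopologicalSpace Opposite

namespace Groth.Agent.KCohDev46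

open QC70

variable {X : Scheme.{u}}

theorem exists_smul_unit_stalk {Z : Scheme.{u}} (z : Z)
    (e : (Coh.structureModule Z).presheaf.stalk z) :
    ∃ c : Z.presheaf.stalk z, e = c • germM (unitMod Z) ⊤ z trivial (toUnit 1) := by
  obtain ⟨W, hzW, s, rfl⟩ := germM_exist e
  refine ⟨Z.presheaf.germ W z hzW (show Γ(Z, W) from s), ?_⟩
  rw [← germM_res (M := unitMod Z) (le_top : W ≤ ⊤) hzW (toUnit 1),
    ← germM_smul (M := unitMod Z)]
  refine congrArg (germM (unitMod Z) W z hzW) ?_
  refine Eq.symm ?_
  refine (congrArg ((show Γ(Z, W) from s) • ·)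
    (congrArg toUnit (map_one (Z.presheaf.map (homOfLE (le_top : W ≤ ⊤)).op).hom))).trans ?_
  exact (smul_unit (show Γ(Z, W) from s) (toUnit 1)).trans (mul_one (show Γ(Z, W) from s))

variable (x : X)

/-- The closure of a point, as a reduced closed subscheme. -/
abbrev ptSub : Scheme.{u} := (IntMult.ptIdeal x).subscheme

theorem range_ptSub : Set.range (IntMult.ptIdeal x).subschemeι = closure {x} :=
  SchBasics.range_vanishingIdeal_subschemeι ⟨closure {x}, isClosed_closure⟩

theorem isIntegral_ptSub : IsIntegral (ptSub x) := by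
  haveI : IsReduced (ptSub x) :=
    SchBasics.isReduced_vanishingIdeal_subscheme ⟨closure {x}, isClosed_closure⟩
  have hh := (IntMult.ptIdeal x).subschemeι.isClosedEmbedding.isEmbedding.toHomeomorph
  haveI : IrreducibleSpace (ptSub x) := by
    rw [hh.irreducibleSpace_iff, range_ptSub]
    exact Subtype.irreducibleSpace isIrreducible_singleton.closure
  exact isIntegral_of_irreducibleSpace_of_isReduced _

theorem isCoh_closureStructureSheaf [IsLocallyNoetherian X] :
    Coh.IsCoh (Cyc.closureStructureSheaf x) :=
  haveI : IsLocallyNoetherian (ptSub x) :=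
    LocallyOfFiniteType.isLocallyNoetherian (IntMult.ptIdeal x).subschemeι
  isCoh_pushforward (IntMult.ptIdeal x).subschemeι (Coh.structureModule (ptSub x)) isCoh_unit

theorem support_closureStructureSheaf [IsLocallyNoetherian X] :
    CohB1.support (Cyc.closureStructureSheaf x) ⊆ closure {x} := by
  haveI : IsLocallyNoetherian (ptSub x) :=
    LocallyOfFiniteType.isLocallyNoetherian (IntMult.ptIdeal x).subschemeι
  haveI := (isCoh_unit (X := ptSub x)).2
  exact (support_pushforward_subset (IntMult.ptIdeal x).subschemeι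
    (Coh.structureModule (ptSub x))).trans (range_ptSub x).le

theorem length_stalk_closureStructureSheaf :
    Module.length (X.presheaf.stalk x) ((Cyc.closureStructureSheaf x).presheaf.stalk x) = 1 := by
  haveI := isIntegral_ptSub x
  let i := (IntMult.ptIdeal x).subschemeι
  have hx : i (genericPoint (ptSub x)) = x := by
    have h := (genericPoint_spec (ptSub x)).image i.continuous
    rw [Set.image_univ, range_ptSub, closure_closure] at h
    exact IsGenericPoint.eq (S := closure {x}) h isGenericPoint_closure
  suffices H : ∀ y : X, y = i (genericPoint (ptSub x)) →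
      Module.length (X.presheaf.stalk y) ((Cyc.closureStructureSheaf x).presheaf.stalk y) = 1 from
    H x hx.symm
  rintro y rfl
  let H := Coh.structureModule (ptSub x)
  let M := ((Scheme.Modules.pushforward i).obj H).presheaf.stalk (i (genericPoint (ptSub x)))
  change Module.length (X.presheaf.stalk (i (genericPoint (ptSub x)))) M = 1
  haveI := nontrivial_stalk_unit (genericPoint (ptSub x))
  haveI : Nontrivial M := nontrivial_stalk_pushforward i H _
  obtain ⟨g, hg⟩ := (bijective_pushStalk i H (genericPoint (ptSub x))).2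
    (germM (unitMod (ptSub x)) ⊤ _ trivial (toUnit 1))
  have hcyc : ∀ e : M, ∃ r : X.presheaf.stalk (i (genericPoint (ptSub x))), r • g = e := by
    intro e
    obtain ⟨c, hc⟩ := exists_smul_unit_stalk _ (pushStalk i H (genericPoint (ptSub x)) e)
    obtain ⟨r, rfl⟩ := i.stalkMap_surjective (genericPoint (ptSub x)) c
    refine ⟨r, (bijective_pushStalk i H _).1 ?_⟩
    rw [pushStalk_smul, hg, hc]
  refine Module.length_eq_one_iff.2 (isSimpleModule_iff_toSpanSingleton_surjective.2
    ⟨‹Nontrivial M›, fun m hm e => ?_⟩)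
  obtain ⟨r, rfl⟩ := hcyc e
  obtain ⟨s, rfl⟩ := hcyc m
  have hs : IsUnit s := by
    by_contra hs
    exact hm (stalk_pushforward_killed i H s ((IsLocalRing.mem_maximalIdeal s).2 hs) g)
  obtain ⟨s, rfl⟩ := hs
  exact ⟨r * s⁻¹.1, by
    rw [LinearMap.toSpanSingleton_apply, smul_smul, mul_assoc, Units.inv_mul, mul_one]⟩

theorem closure_range_closureStructureSheaf [IsNoetherian X] (T : Set X) (hT : IsClosed T) :
    AddSubgroup.closure (Set.range fun y : T =>
      KZero.clSub (fun G : X.Modules => Coh.IsCoh G ∧ CohB1.support G ⊆ T)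
        (Cyc.closureStructureSheaf y.1)) = ⊤ :=
  closure_range_eq_top T hT (fun y : T => Cyc.closureStructureSheaf y.1)
    (fun y => ⟨isCoh_closureStructureSheaf y.1, (support_closureStructureSheaf y.1).trans
      (hT.closure_subset_iff.2 (Set.singleton_subset_iff.2 y.2))⟩)
    fun y hy => ⟨⟨y, hy⟩, support_closureStructureSheaf y, length_stalk_closureStructureSheaf y⟩

section Filtration

variable (T : Set X)

/-- From classes supported in a closed subset to all classes. -/
def inclK0 : KZero.K0sub (fun G : X.Modules => Coh.IsCoh G ∧ CohB1.support G ⊆ T) →+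
    KZero.K0sub (fun M : X.Modules => Coh.IsCoh M) :=
  QuotientAddGroup.lift _ (FreeAbelianGroup.lift fun M => KZero.clSub _ M.1) (by
    rw [KZero.relSub, AddSubgroup.closure_le]
    rintro _ ⟨S, h₁, h₂, h₃, hS, rfl⟩
    rw [SetLike.mem_coe, AddMonoidHom.mem_ker, map_sub, map_sub, FreeAbelianGroup.lift_apply_of,
      FreeAbelianGroup.lift_apply_of, FreeAbelianGroup.lift_apply_of,
      clSub_add (fun M : X.Modules => Coh.IsCoh M) S hS h₁.1 h₂.1 h₃.1]
    abel)

theorem inclK0_clSub {M : X.Modules} (h : Coh.IsCoh M ∧ CohB1.support M ⊆ T) :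
    inclK0 T (KZero.clSub (fun G : X.Modules => Coh.IsCoh G ∧ CohB1.support G ⊆ T) M) =
      KZero.clSub (fun M : X.Modules => Coh.IsCoh M) M :=
  (congrArg (inclK0 T) (clSub_eq (fun G : X.Modules => Coh.IsCoh G ∧ CohB1.support G ⊆ T) h)).trans
    (FreeAbelianGroup.lift_apply_of _ _)

theorem dim_le_of_subset {s t : Set X} (h : s ⊆ t) :
    topologicalKrullDim s ≤ topologicalKrullDim t :=
  (Topology.IsEmbedding.inclusion h).isInducing.topologicalKrullDim_le

theorem mem_closure_closureStructureSheaf [IsNoetherian X] {G : X.Modules} (hG : Coh.IsCoh G) :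
    KZero.clSub (fun M : X.Modules => Coh.IsCoh M) G ∈
      AddSubgroup.closure {c : KZero.K0sub (fun M : X.Modules => Coh.IsCoh M) |
        ∃ x ∈ CohB1.support G,
          c = KZero.clSub (fun M : X.Modules => Coh.IsCoh M) (Cyc.closureStructureSheaf x)} := by
  haveI := hG.2
  let T := CohB1.support G
  have hT : IsClosed T := isClosed_support G
  have h := congrArg (AddSubgroup.map (inclK0 T)) (closure_range_closureStructureSheaf T hT)
  rw [AddMonoidHom.map_closure] at h
  have hmem : inclK0 T (KZero.clSub _ G) ∈ AddSubgroup.map (inclK0 T) ⊤ :=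
    AddSubgroup.mem_map_of_mem _ trivial
  rw [← h, inclK0_clSub T (M := G) ⟨hG, subset_rfl⟩] at hmem
  refine AddSubgroup.closure_mono ?_ hmem
  rintro _ ⟨_, ⟨y, rfl⟩, rfl⟩
  exact ⟨y.1, y.2, inclK0_clSub T ⟨isCoh_closureStructureSheaf y.1,
    (support_closureStructureSheaf y.1).trans (hT.closure_subset_iff.2 (Set.singleton_subset_iff.2 y.2))⟩⟩

theorem filt_eq [IsNoetherian X] (n : ℕ) :
    AddSubgroup.closure {c : KZero.K0sub (fun M : X.Modules => Coh.IsCoh M) |
        ∃ G : X.Modules, Coh.IsCoh G ∧ topologicalKrullDim ↥(CohB1.support G) ≤ n ∧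
          c = KZero.clSub (fun M : X.Modules => Coh.IsCoh M) G} =
      AddSubgroup.closure {c : KZero.K0sub (fun M : X.Modules => Coh.IsCoh M) |
        ∃ x : ↥X, topologicalKrullDim ↥(closure ({x} : Set ↥X)) ≤ n ∧
          c = KZero.clSub (fun M : X.Modules => Coh.IsCoh M) (Cyc.closureStructureSheaf x)} := by
  refine le_antisymm ((AddSubgroup.closure_le _).2 ?_) (AddSubgroup.closure_mono ?_)
  · rintro _ ⟨G, hG, hn, rfl⟩
    refine AddSubgroup.closure_mono ?_ (mem_closure_closureStructureSheaf hG)
    rintro _ ⟨x, hx, rfl⟩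
    haveI := hG.2
    exact ⟨x, (dim_le_of_subset
      ((isClosed_support G).closure_subset_iff.2 (Set.singleton_subset_iff.2 hx))).trans hn, rfl⟩
  · rintro _ ⟨x, hx, rfl⟩
    exact ⟨_, isCoh_closureStructureSheaf x,
      (dim_le_of_subset (support_closureStructureSheaf x)).trans hx, rfl⟩

end Filtration

end Groth.Agent.KCohDev46
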