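import Groth.Agent.KCohDev46.Closure
import Groth.Agent.TopDim50.Basic
import Groth.Agent.CohSerre72.Basic
import Mathlib.Algebra.BigOperators.Finprod

/-!
The class of a coherent module modulo classes of smaller dimension.
-/

set_option autoImplicit false
set_option backward.isDefEq.respectTransparency.types false
set_option linter.style.haveILetI false

noncomputable section

universe u

open CategoryTheory Limits AlgebraicGeometry TopologicalSpace Opposite

namespace Groth.Agent.KCohDev46

open QC70

variable {X : Scheme.{u}}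

local notation "CC" => (fun M : X.Modules => Coh.IsCoh M)

theorem length_stalk_add (S : ShortComplex X.Modules) (hS : S.ShortExact) (x : X) :
    Module.length (X.presheaf.stalk x) (S.X₂.presheaf.stalk x) =
      Module.length (X.presheaf.stalk x) (S.X₁.presheaf.stalk x) +
        Module.length (X.presheaf.stalk x) (S.X₃.presheaf.stalk x) := by
  haveI := hS.mono_f
  haveI := hS.epi_g
  refine Module.length_eq_add_of_exact (stalkLinear S.f x) (stalkLinear S.g x)
    (injective_stalkMapM_of_mono S.f x) (surjective_stalkMapM_of_epi S.g x) fun e => ?_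
  refine ⟨fun he => stalkMapM_exact S hS.exact x e he, ?_⟩
  rintro ⟨d, rfl⟩
  refine (stalkMapM_comp S.f S.g x d).symm.trans ?_
  rw [S.zero, stalkMapM_zero]

theorem length_eq_zero_of_notMem {M : X.Modules} {x : X} (h : x ∉ CohB1.support M) :
    Module.length (X.presheaf.stalk x) (M.presheaf.stalk x) = 0 :=
  Module.length_eq_zero_iff.2 (notMem_support_iff.1 h)

variable (n : ℕ)

/-- Points with `n`-dimensional closure. -/
abbrev DimPt (x : X) : Prop := topologicalKrullDim ↥(closure ({x} : Set X)) = n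

open Classical in
/-- The summand attached to a point. -/
abbrev cycTerm (M : X.Modules) (x : X) : KZero.K0sub CC :=
  if topologicalKrullDim ↥(closure ({x} : Set ↥X)) = n then
    (Module.length (X.presheaf.stalk x) (M.presheaf.stalk x)).toNat •
      KZero.clSub CC (Cyc.closureStructureSheaf x) else 0

variable (X) in
/-- Classes of smaller dimension. -/
abbrev filtLT : AddSubgroup (KZero.K0sub CC) :=
  AddSubgroup.closure {c : KZero.K0sub CC |
    ∃ G : X.Modules, Coh.IsCoh G ∧ topologicalKrullDim ↥(CohB1.support G) < n ∧ c = KZero.clSub CC G}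

/-- The statement for one module. -/
def Good (M : X.Modules) : Prop :=
  {x : X | DimPt n x ∧ x ∈ CohB1.support M}.Finite ∧
    (∀ x : X, DimPt n x → Module.length (X.presheaf.stalk x) (M.presheaf.stalk x) ≠ ⊤) ∧
    KZero.clSub CC M - finsum (cycTerm n M) ∈ filtLT X n

theorem support_cycTerm_subset (M : X.Modules) :
    Function.support (cycTerm n M) ⊆ {x : X | DimPt n x ∧ x ∈ CohB1.support M} := by
  intro x hx
  by_contra h
  refine hx ?_
  by_cases hD : DimPt n x
  · rw [cycTerm, if_pos hD, length_eq_zero_of_notMem fun h' => h ⟨hD, h'⟩]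
    simp
  · rw [cycTerm, if_neg hD]

theorem clSub_isZero {M : X.Modules} (hM : IsZero M) : KZero.clSub CC M = 0 := by
  have hC : Coh.IsCoh M := isCoh_of_isZero hM
  let S : ShortComplex X.Modules := ShortComplex.mk (𝟙 M) (0 : M ⟶ M) comp_zero
  have hS : S.ShortExact :=
    { exact := ShortComplex.exact_of_isZero_X₂ _ hM
      epi_g := ⟨fun g h _ => hM.eq_of_src g h⟩ }
  have e := clSub_add CC S hS hC hC hC
  change KZero.clSub CC M = KZero.clSub CC M + KZero.clSub CC M at e
  exact left_eq_add.1 e

theorem good_isZero {M : X.Modules} (hM : IsZero M) : Good n M := by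
  have h : ∀ x : X, x ∉ CohB1.support M := fun x =>
    notMem_support_iff.2 (subsingleton_of_forall_eq 0 fun e =>
      (stalkMapM_id x e).symm.trans (by rw [(IsZero.iff_id_eq_zero M).1 hM, stalkMapM_zero]))
  refine ⟨(Set.finite_empty).subset fun x hx => h x hx.2, fun x _ => ?_, ?_⟩
  · rw [length_eq_zero_of_notMem (h x)]
    exact ENat.zero_ne_top
  · rw [clSub_isZero hM, finsum_eq_zero_of_forall_eq_zero fun x => ?_, sub_zero]
    · exact zero_mem _
    · exact Function.notMem_support.1 fun hx => h x (support_cycTerm_subset n M hx).2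

theorem finsum_cycTerm_add (S : ShortComplex X.Modules) (hS : S.ShortExact)
    (h₁ : {x : X | DimPt n x ∧ x ∈ CohB1.support S.X₁}.Finite)
    (h₃ : {x : X | DimPt n x ∧ x ∈ CohB1.support S.X₃}.Finite)
    (l₁ : ∀ x : X, DimPt n x → Module.length (X.presheaf.stalk x) (S.X₁.presheaf.stalk x) ≠ ⊤)
    (l₃ : ∀ x : X, DimPt n x → Module.length (X.presheaf.stalk x) (S.X₃.presheaf.stalk x) ≠ ⊤) :
    finsum (cycTerm n S.X₂) = finsum (cycTerm n S.X₁) + finsum (cycTerm n S.X₃) := by
  rw [← finsum_add_distrib (h₁.subset (support_cycTerm_subset n _))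
    (h₃.subset (support_cycTerm_subset n _))]
  refine finsum_congr fun x => ?_
  by_cases hD : DimPt n x
  · simp only [cycTerm, if_pos hD, length_stalk_add S hS x, ENat.toNat_add (l₁ x hD) (l₃ x hD),
      add_smul]
  · simp only [cycTerm, if_neg hD, add_zero]

theorem good_X₂ (S : ShortComplex X.Modules) (hS : S.ShortExact) (h₁ : Coh.IsCoh S.X₁)
    (h₂ : Coh.IsCoh S.X₂) (h₃ : Coh.IsCoh S.X₃) (g₁ : Good n S.X₁) (g₃ : Good n S.X₃) :
    Good n S.X₂ := by
  obtain ⟨f₁, l₁, m₁⟩ := g₁
  obtain ⟨f₃, l₃, m₃⟩ := g₃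
  refine ⟨(f₁.union f₃).subset fun x hx => ?_, fun x hD => ?_, ?_⟩
  · rw [Set.mem_ofPred_eq, CohSerre72.support_X₂ S hS] at hx
    exact hx.2.imp (fun h => ⟨hx.1, h⟩) fun h => ⟨hx.1, h⟩
  · rw [length_stalk_add S hS x]
    exact WithTop.add_ne_top.2 ⟨l₁ x hD, l₃ x hD⟩
  · rw [clSub_add CC S hS h₁ h₂ h₃, finsum_cycTerm_add n S hS f₁ f₃ l₁ l₃, add_sub_add_comm]
    exact add_mem m₁ m₃

theorem good_X₁ (S : ShortComplex X.Modules) (hS : S.ShortExact) (h₁ : Coh.IsCoh S.X₁)
    (h₂ : Coh.IsCoh S.X₂) (h₃ : Coh.IsCoh S.X₃) (g₂ : Good n S.X₂) (g₃ : Good n S.X₃) :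
    Good n S.X₁ := by
  obtain ⟨f₂, l₂, m₂⟩ := g₂
  obtain ⟨f₃, l₃, m₃⟩ := g₃
  haveI := hS.mono_f
  have f₁ : {x : X | DimPt n x ∧ x ∈ CohB1.support S.X₁}.Finite :=
    f₂.subset fun x hx => ⟨hx.1, mem_support_of_mono S.f hx.2⟩
  have l₁ : ∀ x : X, DimPt n x → Module.length (X.presheaf.stalk x) (S.X₁.presheaf.stalk x) ≠ ⊤ :=
    fun x hD h => l₂ x hD (by rw [length_stalk_add S hS x, h, top_add])
  refine ⟨f₁, l₁, ?_⟩
  have := sub_mem m₂ m₃
  rw [clSub_add CC S hS h₁ h₂ h₃, finsum_cycTerm_add n S hS f₁ f₃ l₁ l₃, add_sub_add_comm,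
    add_sub_cancel_right] at this
  exact this

theorem eq_of_dimPt {x y : X} (hy : topologicalKrullDim ↥(closure ({y} : Set X)) ≤ n)
    (hx : DimPt n x) (hxy : x ∈ closure ({y} : Set X)) : x = y := by
  by_contra hne
  have hsub : closure ({x} : Set X) ⊆ closure {y} :=
    isClosed_closure.closure_subset_iff.2 (Set.singleton_subset_iff.2 hxy)
  haveI : IrreducibleSpace ↥(closure ({y} : Set X)) :=
    Subtype.irreducibleSpace isIrreducible_singleton.closure
  have hlt := TopDim50.dim_lt_of_ssubset (X := ↥(closure ({y} : Set X)))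
    (ne_top_of_le_ne_top (fun h => ENat.natCast_ne_top n (WithBot.coe_injective h)) hy)
    (Y := Subtype.val ⁻¹' closure ({x} : Set X)) (isClosed_closure.preimage continuous_subtype_val)
    (fun h => hne ((specializes_iff_mem_closure.2 hxy).antisymm
      (specializes_iff_mem_closure.2 (show y ∈ closure ({x} : Set X) from
        (h.ge (Set.mem_univ (⟨y, subset_closure rfl⟩ : ↥(closure ({y} : Set X))))))) ).eq.symm)
  let g : ↥(closure ({x} : Set X)) →
      ↥(Subtype.val ⁻¹' closure ({x} : Set X) : Set ↥(closure ({y} : Set X))) :=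
    fun z => ⟨⟨z.1, hsub z.2⟩, z.2⟩
  have hg : Topology.IsInducing g :=
    Topology.IsInducing.of_comp (by fun_prop) (continuous_subtype_val.comp continuous_subtype_val)
      Topology.IsInducing.subtypeVal
  exact lt_irrefl _ (lt_of_lt_of_le ((hx.ge.trans hg.topologicalKrullDim_le).trans_lt hlt) hy)

variable [IsNoetherian X]

theorem good_closureStructureSheaf {y : X} (hy : topologicalKrullDim ↥(closure ({y} : Set X)) ≤ n) :
    Good n (Cyc.closureStructureSheaf y) := by
  have hset : ∀ x : X, DimPt n x → x ∈ CohB1.support (Cyc.closureStructureSheaf y) → x = y :=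
    fun x hD hx => eq_of_dimPt n hy hD (support_closureStructureSheaf y hx)
  refine ⟨(Set.finite_singleton y).subset fun x hx => hset x hx.1 hx.2, fun x hD => ?_, ?_⟩
  · by_cases hx : x ∈ CohB1.support (Cyc.closureStructureSheaf y)
    · rw [hset x hD hx, length_stalk_closureStructureSheaf]
      exact ENat.one_ne_top
    · rw [length_eq_zero_of_notMem hx]
      exact ENat.zero_ne_top
  · rw [finsum_eq_single (cycTerm n (Cyc.closureStructureSheaf y)) y fun x hx =>
      Function.notMem_support.1 fun h => hx (hset x (support_cycTerm_subset n _ h).1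
        (support_cycTerm_subset n _ h).2)]
    by_cases hD : DimPt n y
    · rw [cycTerm, if_pos hD, length_stalk_closureStructureSheaf]
      simp
    · rw [cycTerm, if_neg hD, sub_zero]
      exact AddSubgroup.subset_closure ⟨_, isCoh_closureStructureSheaf y,
        (dim_le_of_subset (support_closureStructureSheaf y)).trans_lt (lt_of_le_of_ne hy hD), rfl⟩

theorem clSub_sub_finsum_mem (F : X.Modules) (hF : Coh.IsCoh F)
    (hsupp : topologicalKrullDim ↥(CohB1.support F) ≤ n) : Good n F := by
  haveI := hF.2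
  let T := CohB1.support F
  have hT : IsClosed T := isClosed_support F
  refine devissage_one (fun M => Coh.IsCoh M → CohB1.support M ⊆ T → Good n M)
    (fun M hM _ _ => good_isZero n hM)
    (fun S hS h₁ h₂ h₃ g₁ g₃ _ hs => ?_) T hT (fun y hy IH => ?_) F hF subset_rfl hF subset_rfl
  · haveI := hS.mono_f
    haveI := hS.epi_g
    exact good_X₂ n S hS h₁ h₂ h₃ (g₁ h₁ ((mem_support_of_mono S.f).trans hs))
      (g₃ h₃ ((mem_support_of_epi S.g).trans hs))
  · have hcl : closure ({y} : Set X) ⊆ T := hT.closure_subset_iff.2 (Set.singleton_subset_iff.2 hy)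
    have hG := isCoh_closureStructureSheaf y
    refine ⟨_, hG, length_stalk_closureStructureSheaf y, fun J hJ _ _ => ?_⟩
    haveI := hG.1
    have hq := isCoh_quot J hG
    have hsl := (support_quot_subset_left J (Cyc.closureStructureSheaf y)).trans
      (support_closureStructureSheaf y)
    exact good_X₁ n (quotSC J _) (quotSC_shortExact J _) (isCoh_idealMul J hG) hG hq
      (good_closureStructureSheaf n ((dim_le_of_subset hcl).trans hsupp))
      (IH _ hq hsl (fun h => hJ (support_quot_subset_right J _ h)) hq (hsl.trans hcl))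

end Groth.Agent.KCohDev46
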