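import Groth.Agent.KCohDev46.Filt
import Groth.Agent.QCTens72.Basic
import Groth.Agent.Amp73.SemilocalFree
import Mathlib.LinearAlgebra.TensorProduct.Pi

/-!
Tensoring with a locally free module on the graded pieces of `K₀`.
-/

set_option autoImplicit false
set_option backward.isDefEq.respectTransparency.types false
set_option linter.style.haveILetI false

noncomputable section

universe u

open CategoryTheory Limits AlgebraicGeometry TopologicalSpace Opposite
open scoped TensorProduct

namespace Groth.Agent.KCohDev46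

open QC70

variable {X : Scheme.{u}}

local notation "CC" => (fun M : X.Modules => Coh.IsCoh M)

theorem nonempty_stalk_tensor [IsLocallyNoetherian X] {E F : X.Modules} (hE : Coh.IsCoh E)
    (hF : Coh.IsCoh F) (x : X) :
    Nonempty ((CohB1.tensorMod E F).presheaf.stalk x ≃ₗ[X.presheaf.stalk x]
      E.presheaf.stalk x ⊗[X.presheaf.stalk x] F.presheaf.stalk x) := by
  haveI := hE.1
  haveI := hF.1
  haveI := hE.2
  haveI := hF.2
  obtain ⟨U, hx⟩ := Div89.exists_affine_mem x
  have hT : Coh.IsQCoh (CohB1.tensorMod E F) := QCTens72.isQuasicoherent_tensorMod E F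
  letI := Div89.stalkAlg U.1 x hx
  letI := Div89.stalkModule E U.1 x hx
  letI := Div89.stalkModule F U.1 x hx
  letI := Div89.stalkModule (CohB1.tensorMod E F) U.1 x hx
  haveI := Div89.isScalarTower_stalk E U.1 x hx
  haveI := Div89.isScalarTower_stalk F U.1 x hx
  haveI := Div89.isScalarTower_stalk (CohB1.tensorMod E F) U.1 x hx
  haveI := Div89.isLocalization_stalk U x hx
  haveI := Div89.isLocalizedModule_germLin E hE.1 U x hx
  haveI := Div89.isLocalizedModule_germLin F hF.1 U x hx
  haveI := Div89.isLocalizedModule_germLin _ hT U x hx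
  have bE := IsLocalizedModule.isBaseChange (Div89.primeAt U x hx).primeCompl (X.presheaf.stalk x)
    (Div89.germLin E U.1 x hx)
  have bF := IsLocalizedModule.isBaseChange (Div89.primeAt U x hx).primeCompl (X.presheaf.stalk x)
    (Div89.germLin F U.1 x hx)
  have bT := IsLocalizedModule.isBaseChange (Div89.primeAt U x hx).primeCompl (X.presheaf.stalk x)
    (Div89.germLin (CohB1.tensorMod E F) U.1 x hx)
  exact ⟨bT.equiv.symm ≪≫ₗ
    TensorProduct.AlgebraTensorModule.congr (LinearEquiv.refl (X.presheaf.stalk x) (X.presheaf.stalk x))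
      (QCTens72.sectionsTensorEquiv E F U.2) ≪≫ₗ
    TensorProduct.AlgebraTensorModule.distribBaseChange Γ(X, U.1) (X.presheaf.stalk x) Γ(E, U.1) Γ(F, U.1) ≪≫ₗ
    TensorProduct.congr bE.equiv bF.equiv⟩

theorem clSub_tensor_sub_mem [IsNoetherian X] (E : X.Modules) (e : ℕ)
    (hE : FlatMod.IsFinLocFreeOfRank e E) (F : X.Modules) (hF : Coh.IsCoh F) (r : ℕ)
    (hr : topologicalKrullDim ↥(CohB1.support F) ≤ r) :
    KZero.clSub CC (CohB1.tensorMod E F) - e • KZero.clSub CC F ∈ filtLT X r := by
  have hlf : FlatMod.IsFinLocFree E := fun x => (hE x).imp fun _ hU => ⟨e, hU⟩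
  have hEc : Coh.IsCoh E := ⟨Props58.LocFree.isQuasicoherent_of_isFinLocFree hlf,
    Props58.LocFree.isFiniteType_of_isFinLocFree hlf⟩
  haveI := hEc.1
  haveI := hEc.2
  haveI := hF.1
  haveI := hF.2
  have hTc : Coh.IsCoh (CohB1.tensorMod E F) :=
    ⟨QCTens72.isQuasicoherent_tensorMod E F, QCTens72.isFiniteType_tensorMod E F⟩
  have hlen : ∀ x : X, Module.length (X.presheaf.stalk x) ((CohB1.tensorMod E F).presheaf.stalk x) =
      e * Module.length (X.presheaf.stalk x) (F.presheaf.stalk x) := by
    intro x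
    obtain ⟨U, hy, ⟨φ⟩⟩ := hE x
    obtain ⟨s, hs⟩ := Props58.LocFree.exists_stalkBasis_of_iso φ
    obtain ⟨t⟩ := nonempty_stalk_tensor hEc hF x
    rw [(t ≪≫ₗ TensorProduct.congr (hs.stalkEquiv x hy).symm (LinearEquiv.refl _ _) ≪≫ₗ
      TensorProduct.comm _ _ _ ≪≫ₗ TensorProduct.piScalarRight _ _ _ _).length_eq,
      Module.length_pi, ENat.card_eq_coe_fintype_card, Fintype.card_fin]
  have hsupp : CohB1.support (CohB1.tensorMod E F) ⊆ CohB1.support F := by
    rw [QCTens72.support_tensorMod E F]
    exact Set.inter_subset_right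
  have gT := clSub_sub_finsum_mem r _ hTc ((dim_le_of_subset hsupp).trans hr)
  have gF := clSub_sub_finsum_mem r F hF hr
  have hterm : ∀ x : X, cycTerm r (CohB1.tensorMod E F) x = e • cycTerm r F x := fun x => by
    by_cases hD : DimPt r x
    · simp only [cycTerm, if_pos hD, hlen x, ENat.toNat_mul, ENat.toNat_natCast, mul_smul]
    · simp only [cycTerm, if_neg hD, smul_zero]
  have := sub_mem gT.2.2 (nsmul_mem gF.2.2 e)
  rw [finsum_congr hterm, ← smul_finsum' _ (gF.1.subset (support_cycTerm_subset r F)), nsmul_sub,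
    sub_sub_sub_cancel_right] at this
  exact this

end Groth.Agent.KCohDev46
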